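import Groth.Prelude.Def_LiftSq
import Groth.Prelude.Def_FibCat2
import Groth.Agent.Lib.FibCat.Basic

/-!
# Unique filling of lifting squares is stable under composition and base change
-/

universe v₆ u₆ v₅ u₅ v₄ u₄ v₃ u₃ v₂ u₂ v u

open CategoryTheory

namespace GrothLib.LiftSqLib

variable {C : Type u} [Category.{v} C]
  {𝒜 : BasedCategory.{v₂, u₂} C} {ℬ : BasedCategory.{v₃, u₃} C}
  {𝒳 : BasedCategory.{v₄, u₄} C} {𝒴 : BasedCategory.{v₅, u₅} C} {𝒵 : BasedCategory.{v₆, u₆} C}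

theorem map_paste {D₁ : Type*} [Category D₁] {D₂ : Type*} [Category D₂] (F : D₁ ⥤ D₂) {a₁ a₂ a₃ : D₁}
    {p q : D₂} (a : a₁ ⟶ a₂) (b : a₂ ⟶ a₃) (i : F.obj a₂ ⟶ p) (i' : F.obj a₃ ⟶ q) (c : p ⟶ q)
    (h : F.map b ≫ i' = i ≫ c) : (F.map a ≫ i) ≫ c = F.map (a ≫ b) ≫ i' := by
  rw [F.map_comp, Category.assoc, Category.assoc, h]

theorem map_cancel {D₁ : Type*} [Category D₁] {D₂ : Type*} [Category D₂] (F : D₁ ⥤ D₂) {a₁ a₂ a₃ : D₁}
    {p q : D₂} (a : a₁ ⟶ a₂) (ai : a₂ ⟶ a₁) (a' : a₁ ⟶ a₃) (i : F.obj a₂ ⟶ p) (i' : F.obj a₃ ⟶ q) (c : p ⟶ q)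
    (h : (F.map a ≫ i) ≫ c = F.map a' ≫ i') (hi : ai ≫ a = 𝟙 a₂) : F.map (ai ≫ a') ≫ i' = i ≫ c := by
  rw [F.map_comp, Category.assoc, ← h, ← Category.assoc, ← Category.assoc, ← F.map_comp, hi, F.map_id,
    Category.id_comp]

theorem isHomLift_fp {𝒲 : BasedCategory.{v₆, u₆} C} {y : 𝒲 ⥤ᵇ 𝒴} {f : 𝒳 ⥤ᵇ 𝒴} {R S : C}
    {a b : (_root_.FibCat.fp y f).obj} (φ : a ⟶ b) (g : R ⟶ S) (h : 𝒲.p.IsHomLift g φ.hom.fst) :
    (_root_.FibCat.fp y f).p.IsHomLift g φ := by
  cases h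
  exact Functor.IsHomLift.map (p := (_root_.FibCat.fp y f).p) φ

theorem comp_app {F G H : 𝒳 ⥤ᵇ 𝒴} (α : F ⟶ G) (β : G ⟶ H) (x : 𝒳.obj) :
    (α ≫ β).toNatTrans.app x = α.toNatTrans.app x ≫ β.toNatTrans.app x := rfl

/-- Morphisms of dotted arrows between uniquely filling ones are invertible. -/
theorem isIso_of_uniqLift {j : 𝒜 ⥤ᵇ ℬ} {f : 𝒳 ⥤ᵇ 𝒴} {sq : LiftSq.Sq j f} (h : sq.UniqLift)
    {d d' : sq.Lift} (θ : d ⟶ d') : IsIso θ := by
  obtain ⟨u⟩ := h d' d
  obtain ⟨v⟩ := h d d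
  obtain ⟨w⟩ := h d' d'
  exact ⟨u.default, @Subsingleton.elim _ (@Unique.instSubsingleton _ v) _ _,
    @Subsingleton.elim _ (@Unique.instSubsingleton _ w) _ _⟩

theorem liftsUniquely_comp {j : 𝒜 ⥤ᵇ ℬ} (f : 𝒳 ⥤ᵇ 𝒴) (g : 𝒴 ⥤ᵇ 𝒵)
    (hf : LiftSq.LiftsUniquely j f) (hg : LiftSq.LiftsUniquely j g) :
    LiftSq.LiftsUniquely j (BasedFunctor.comp f g) := by
  intro sq
  let sg : LiftSq.Sq j g := ⟨BasedFunctor.comp sq.top f, sq.bot, sq.iso⟩
  constructor
  · obtain ⟨e⟩ := (hg sg).1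
    obtain ⟨d⟩ := (hf ⟨sq.top, e.fn, e.isoTop⟩).1
    refine ⟨⟨d.fn, d.isoTop, e.isoBot ≪≫ GrothLib.FibCat.whiskerRightIso d.isoBot g,
      GrothLib.FibCat.natTrans_ext fun x => ?_⟩⟩
    have h1 := congrArg (fun α => g.map (α.toNatTrans.app x)) d.w
    have h2 := congrArg (fun α => α.toNatTrans.app x) e.w
    show (e.isoBot.hom.toNatTrans.app (j.obj x) ≫ g.map (d.isoBot.hom.toNatTrans.app (j.obj x))) ≫
      g.map (f.map (d.isoTop.hom.toNatTrans.app x)) = sq.iso.hom.toNatTrans.app x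
    exact (Category.assoc _ _ _).trans
      ((congrArg (fun t => e.isoBot.hom.toNatTrans.app (j.obj x) ≫ t) ((g.map_comp _ _).symm.trans h1)).trans h2)
  · intro d d'
    let lf : sq.Lift → sg.Lift := fun d =>
      ⟨BasedFunctor.comp d.fn f, GrothLib.FibCat.whiskerRightIso d.isoTop f, d.isoBot, d.w⟩
    obtain ⟨uφ⟩ := (hg sg).2 (lf d) (lf d')
    let φ : lf d ⟶ lf d' := uφ.default
    have : IsIso φ := isIso_of_uniqLift (hg sg).2 φ
    let φi : BasedFunctor.comp d.fn f ≅ BasedFunctor.comp d'.fn f :=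
      ⟨φ.hom, (inv φ).hom, congrArg LiftSq.Sq.Lift.Hom.hom (IsIso.hom_inv_id φ),
        congrArg LiftSq.Sq.Lift.Hom.hom (IsIso.inv_hom_id φ)⟩
    let sf : LiftSq.Sq j f := ⟨sq.top, BasedFunctor.comp d.fn f, GrothLib.FibCat.whiskerRightIso d.isoTop f⟩
    let d₁ : sf.Lift := ⟨d.fn, d.isoTop, Iso.refl _, Category.id_comp _⟩
    let d₂ : sf.Lift := ⟨d'.fn, d'.isoTop, φi, φ.w_top⟩
    obtain ⟨uψ⟩ := (hf sf).2 d₁ d₂
    let ψ : d₁ ⟶ d₂ := uψ.default
    have hψ : BasedCategory.whiskerRight ψ.hom f = φ.hom := (Category.id_comp _).symm.trans ψ.w_bot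
    refine ⟨{ default := ⟨ψ.hom, ψ.w_top, ?_⟩, uniq := fun θ => LiftSq.Sq.Lift.hom_ext ?_ }⟩
    · show d.isoBot.hom ≫ BasedCategory.whiskerRight (BasedCategory.whiskerRight ψ.hom f) g = _
      rw [hψ]
      exact φ.w_bot
    · let θg : lf d ⟶ lf d' :=
        ⟨BasedCategory.whiskerRight θ.hom f, GrothLib.FibCat.natTrans_ext fun x => by
          have h := congrArg (fun α => f.map (α.toNatTrans.app x)) θ.w_top
          show f.map (θ.hom.toNatTrans.app (j.obj x)) ≫ f.map (d'.isoTop.hom.toNatTrans.app x) = _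
          rw [← f.map_comp]
          exact h, θ.w_bot⟩
      have hθ : BasedCategory.whiskerRight θ.hom f = φ.hom :=
        congrArg LiftSq.Sq.Lift.Hom.hom (uφ.uniq θg)
      let θf : d₁ ⟶ d₂ := ⟨θ.hom, θ.w_top, (Category.id_comp _).trans hθ⟩
      exact (congrArg LiftSq.Sq.Lift.Hom.hom (uψ.uniq θf) : θ.hom = ψ.hom)

variable {𝒴' : BasedCategory.{v₆, u₆} C}

theorem liftsUniquely_fpFst {j : 𝒜 ⥤ᵇ ℬ} (f : 𝒳 ⥤ᵇ 𝒴) (y : 𝒴' ⥤ᵇ 𝒴)
    (hf : LiftSq.LiftsUniquely j f) : LiftSq.LiftsUniquely j (_root_.FibCat.fpFst y f) := by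
  intro sq
  let fst := _root_.FibCat.fpFst y f
  let snd := _root_.FibCat.fpSnd y f
  let sf : LiftSq.Sq j f := ⟨BasedFunctor.comp sq.top snd, BasedFunctor.comp sq.bot y,
    GrothLib.FibCat.whiskerRightIso sq.iso y ≪≫ GrothLib.FibCat.whiskerLeftIso sq.top (_root_.FibCat.fpIso y f)⟩
  constructor
  · obtain ⟨d⟩ := (hf sf).1
    let L : ℬ ⥤ᵇ _root_.FibCat.fp y f := _root_.FibCat.fpLift sq.bot d.fn d.isoBot
    let γ : ∀ x, sq.bot.obj (j.obj x) ≅ (sq.top.obj x).obj.fst := fun x => GrothLib.FibCat.isoApp sq.iso x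
    let T : ∀ x, d.fn.obj (j.obj x) ≅ (sq.top.obj x).obj.snd := fun x => GrothLib.FibCat.isoApp d.isoTop x
    let e : ∀ x, L.obj (j.obj x) ≅ sq.top.obj x := fun x =>
      ObjectProperty.isoMk _ (Limits.CategoricalPullback.mkIso (γ x) (T x)
        (congrArg (fun α => α.toNatTrans.app x) d.w).symm)
    refine ⟨⟨L, GrothLib.FibCat.natIsoOfComponents e (fun x => ?_) (fun {x x'} a => ?_), Iso.refl _, ?_⟩⟩
    · exact isHomLift_fp (e x).hom (𝟙 (𝒜.p.obj x)) (GrothLib.FibCat.isHomLift_isoApp sq.iso rfl)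
    · apply ObjectProperty.hom_ext
      apply Limits.CategoricalPullback.hom_ext
      · exact sq.iso.hom.toNatTrans.naturality a
      · exact d.isoTop.hom.toNatTrans.naturality a
    · refine GrothLib.FibCat.natTrans_ext fun x => ?_
      exact Category.id_comp _
  · intro d d'
    let lf : sq.Lift → sf.Lift := fun d =>
      ⟨BasedFunctor.comp d.fn snd, GrothLib.FibCat.whiskerRightIso d.isoTop snd,
        GrothLib.FibCat.whiskerRightIso d.isoBot y ≪≫ GrothLib.FibCat.whiskerLeftIso d.fn (_root_.FibCat.fpIso y f),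
        GrothLib.FibCat.natTrans_ext fun x => by
          have hw : d.isoBot.hom.toNatTrans.app (j.obj x) ≫ (d.isoTop.hom.toNatTrans.app x).hom.fst =
              sq.iso.hom.toNatTrans.app x := congrArg (fun α => α.toNatTrans.app x) d.w
          show (y.map (d.isoBot.hom.toNatTrans.app (j.obj x)) ≫ (d.fn.obj (j.obj x)).obj.iso.hom) ≫
              f.map (d.isoTop.hom.toNatTrans.app x).hom.snd =
            y.map (sq.iso.hom.toNatTrans.app x) ≫ (sq.top.obj x).obj.iso.hom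
          rw [← hw]
          exact map_paste y.toFunctor _ _ _ _ _ (d.isoTop.hom.toNatTrans.app x).hom.w⟩
    obtain ⟨uφ⟩ := (hf sf).2 (lf d) (lf d')
    let φ : lf d ⟶ lf d' := uφ.default
    let β : ∀ b, (d.fn.obj b).obj.fst ⟶ (d'.fn.obj b).obj.fst := fun b =>
      d.isoBot.inv.toNatTrans.app b ≫ d'.isoBot.hom.toNatTrans.app b
    have hβw : ∀ b, y.map (β b) ≫ (d'.fn.obj b).obj.iso.hom =
        (d.fn.obj b).obj.iso.hom ≫ f.map (φ.hom.toNatTrans.app b) := fun b => by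
      have h : (y.map (d.isoBot.hom.toNatTrans.app b) ≫ (d.fn.obj b).obj.iso.hom) ≫
          f.map (φ.hom.toNatTrans.app b) =
          y.map (d'.isoBot.hom.toNatTrans.app b) ≫ (d'.fn.obj b).obj.iso.hom :=
        congrArg (fun α => α.toNatTrans.app b) φ.w_bot
      exact map_cancel y.toFunctor (d.isoBot.hom.toNatTrans.app b) _ _ _ _ _ h
        (GrothLib.FibCat.isoApp d.isoBot b).inv_hom_id
    let θapp : ∀ b, d.fn.obj b ⟶ d'.fn.obj b := fun b =>
      ObjectProperty.homMk { fst := β b, snd := φ.hom.toNatTrans.app b, w := hβw b }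
    let θ : d.fn ⟶ d'.fn :=
      { toNatTrans :=
          { app := θapp
            naturality := fun b b' a => by
              apply ObjectProperty.hom_ext
              apply Limits.CategoricalPullback.hom_ext
              · exact (d.isoBot.inv ≫ d'.isoBot.hom).toNatTrans.naturality a
              · exact φ.hom.toNatTrans.naturality a }
        isHomLift' := fun b =>
          isHomLift_fp (θapp b) (𝟙 (ℬ.p.obj b)) ((d.isoBot.inv ≫ d'.isoBot.hom).isHomLift' b) }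
    refine ⟨{ default := ⟨θ, ?_, ?_⟩, uniq := fun θ' => LiftSq.Sq.Lift.hom_ext ?_ }⟩
    · refine GrothLib.FibCat.natTrans_ext fun x => ?_
      apply ObjectProperty.hom_ext
      apply Limits.CategoricalPullback.hom_ext
      · have h1 : d.isoBot.hom.toNatTrans.app (j.obj x) ≫ (d.isoTop.hom.toNatTrans.app x).hom.fst =
            d'.isoBot.hom.toNatTrans.app (j.obj x) ≫ (d'.isoTop.hom.toNatTrans.app x).hom.fst :=
          (congrArg (fun α => α.toNatTrans.app x) d.w).trans (congrArg (fun α => α.toNatTrans.app x) d'.w).symm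
        show (d.isoBot.inv.toNatTrans.app _ ≫ d'.isoBot.hom.toNatTrans.app _) ≫ _ = _
        erw [Category.assoc, ← h1, (GrothLib.FibCat.isoApp d.isoBot (j.obj x)).inv_hom_id_assoc]
      · exact congrArg (fun α => α.toNatTrans.app x) φ.w_top
    · refine GrothLib.FibCat.natTrans_ext fun b => ?_
      exact (GrothLib.FibCat.isoApp d.isoBot b).hom_inv_id_assoc _
    · let θf : lf d ⟶ lf d' :=
        ⟨BasedCategory.whiskerRight θ'.hom snd, GrothLib.FibCat.natTrans_ext fun x =>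
            congrArg (fun α => (α.toNatTrans.app x).hom.snd) θ'.w_top,
          GrothLib.FibCat.natTrans_ext fun b => by
            have hb : d.isoBot.hom.toNatTrans.app b ≫ (θ'.hom.toNatTrans.app b).hom.fst =
                d'.isoBot.hom.toNatTrans.app b := congrArg (fun α => α.toNatTrans.app b) θ'.w_bot
            show (y.map (d.isoBot.hom.toNatTrans.app b) ≫ (d.fn.obj b).obj.iso.hom) ≫
                f.map (θ'.hom.toNatTrans.app b).hom.snd =
              y.map (d'.isoBot.hom.toNatTrans.app b) ≫ (d'.fn.obj b).obj.iso.hom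
            rw [← hb]
            exact map_paste y.toFunctor _ _ _ _ _ (θ'.hom.toNatTrans.app b).hom.w⟩
      refine GrothLib.FibCat.natTrans_ext fun b => ?_
      apply ObjectProperty.hom_ext
      apply Limits.CategoricalPullback.hom_ext
      · have hb : d.isoBot.hom.toNatTrans.app b ≫ (θ'.hom.toNatTrans.app b).hom.fst =
            d'.isoBot.hom.toNatTrans.app b := congrArg (fun α => α.toNatTrans.app b) θ'.w_bot
        show _ = d.isoBot.inv.toNatTrans.app b ≫ d'.isoBot.hom.toNatTrans.app b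
        rw [← hb]
        exact ((GrothLib.FibCat.isoApp d.isoBot b).inv_hom_id_assoc _).symm
      · exact congrArg (fun α : LiftSq.Sq.Lift.Hom (lf d) (lf d') => α.hom.toNatTrans.app b) (uφ.uniq θf)

end GrothLib.LiftSqLib
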